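import Groth.Agent.TF7.Tower.Flat

/-!
# Iterated elementary modifications
-/

set_option autoImplicit false
set_option linter.style.haveILetI false
set_option backward.isDefEq.respectTransparency.types false
set_option backward.isDefEq.respectTransparency false

universe u

open CategoryTheory CategoryTheory.Limits AlgebraicGeometry Opposite TopologicalSpace

noncomputable section

namespace Groth.Agent.TF7

variable {R : Type u} [CommRing R] [IsDomain R] [IsDiscreteValuationRing R] {X : Scheme.{u}}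
  (f : X ⟶ Spec (CommRingCat.of R)) [IsProper f] {Xs : Scheme.{u}}
  [Xs.Over (Spec (CommRingCat.of (IsLocalRing.ResidueField R)))] [IsReduced Xs] (i : Xs ⟶ X)

local notation "Sx" => DerSch.stalkFunctor X
local notation "St" => DerSch.stalkFunctor Xs
local notation "Pb" => Scheme.Modules.pullback i

theorem kernelι_data (I : X.Modules) (hI : FlatMod.IsFlatOver f I) {ϖ : R} (hϖ : Irreducible ϖ) {IY : X.Modules}
    {G : X.Modules} (φ : I ⟶ G) (hIY : IY = kernel φ) :
    (∀ x : X, Function.Injective ((Sx x).map (eqToHom hIY ≫ kernel.ι φ))) ∧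
      ∀ (x : X) (v : (Sx x).obj IY), X.presheaf.germ ⊤ x trivial (Coh.toGlobal f ϖ) • v = 0 → v = 0 := by
  subst hIY
  rw [eqToHom_refl, Category.id_comp]
  refine ⟨fun x => stalk_injective _ x, fun x v hv => stalk_injective (kernel.ι φ) x ?_⟩
  rw [map_zero]
  refine regular_of_flat f hI hϖ.ne_zero x _ 0 ?_
  rw [smul_zero, ← map_smul, hv, map_zero]

/-- The inductive invariants of a tower of modifications. -/
theorem steps_invariant (hsq : IsPullback i (Xs ↘ Spec (CommRingCat.of (IsLocalRing.ResidueField R))) f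
      (Spec.map (CommRingCat.ofHom (IsLocalRing.residue R))))
    (In : ℕ → X.Modules) (hIc : Coh.IsCoh (In 0)) (hIf : FlatMod.IsFlatOver f (In 0))
    (hIs : TFOne.IsTF1 Xs ((Pb).obj (In 0))) (Y : ℕ → Set Xs) (G : ℕ → Xs.Modules)
    (π : ∀ n, (Pb).obj (In n) ⟶ G n) (hG : ∀ n, TFOne.IsQuotOn Xs ((Pb).obj (In n)) (Y n) (G n) (π n))
    (hstep : ∀ n, In (n + 1) = kernel ((Scheme.Modules.pullbackPushforwardAdjunction i).unit.app (In n) ≫
      (Scheme.Modules.pushforward i).map (π n))) :
    ∀ n, Coh.IsCoh (In n) ∧ FlatMod.IsFlatOver f (In n) ∧ TFOne.IsTF1 Xs ((Pb).obj (In n))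
  | 0 => ⟨hIc, hIf, hIs⟩
  | n + 1 => by
    obtain ⟨h1, h2, h3⟩ := steps_invariant hsq In hIc hIf hIs Y G π hG hstep n
    haveI := (hG n).1
    obtain ⟨hi, ϖ, hϖ, -⟩ := exists_uniformizer f i hsq
    haveI := hi
    haveI : IsLocallyNoetherian X := LocallyOfFiniteType.isLocallyNoetherian f
    haveI : IsLocallyNoetherian Xs := LocallyOfFiniteType.isLocallyNoetherian i
    obtain ⟨hc, S, hS⟩ := setup_flat f i hsq (In n) h1 h2 (π n) (hG n).2.1 (hstep n)
    refine ⟨?_, isFlatOver_of_regular f hϖ _ (kernelι_data f (In n) h2 hϖ _ (hstep n)).2,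
      S.isTF1 h3 (hG n) hc hS⟩
    rw [hstep n]
    exact Coherent.isCoh_kernel _ h1 (Coherent.isCoh_push_finite i (hG n).2.1).1

/-- Algebraization along a tower which decomposes at every step, over a complete base. -/
theorem exists_flatQuotient [IsAdicComplete (IsLocalRing.maximalIdeal R) R]
    (hsq : IsPullback i (Xs ↘ Spec (CommRingCat.of (IsLocalRing.ResidueField R))) f
      (Spec.map (CommRingCat.ofHom (IsLocalRing.residue R))))
    (In : ℕ → X.Modules) (hIc : Coh.IsCoh (In 0)) (hIf : FlatMod.IsFlatOver f (In 0))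
    (hIs : TFOne.IsTF1 Xs ((Pb).obj (In 0))) (Y Y' : Set Xs)
    (hY' : ∀ η ∈ genericPoints (Xs : Type u), η ∈ Y' ↔ η ∉ Y) (G G' : ℕ → Xs.Modules)
    (π : ∀ n, (Pb).obj (In n) ⟶ G n) (π' : ∀ n, (Pb).obj (In n) ⟶ G' n)
    (hG : ∀ n, TFOne.IsQuotOn Xs ((Pb).obj (In n)) Y (G n) (π n))
    (hG' : ∀ n, TFOne.IsQuotOn Xs ((Pb).obj (In n)) Y' (G' n) (π' n))
    (hstep : ∀ n, In (n + 1) = kernel ((Scheme.Modules.pullbackPushforwardAdjunction i).unit.app (In n) ≫
      (Scheme.Modules.pushforward i).map (π n)))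
    (hdec : ∀ n, IsIso (biprod.lift (π (n + 1)) (π' (n + 1)))) :
    ∃ (F : X.Modules) (p : In 0 ⟶ F), Coh.IsCoh F ∧ Epi p ∧ FlatMod.IsFlatOver f F ∧
      ∃ e : (Pb).obj F ≅ G 0, (Pb).map p ≫ e.hom = π 0 := by
  obtain ⟨hi, ϖ, hϖ, hker⟩ := exists_uniformizer f i hsq
  haveI := hi
  haveI : IsLocallyNoetherian X := LocallyOfFiniteType.isLocallyNoetherian f
  haveI : IsLocallyNoetherian Xs := LocallyOfFiniteType.isLocallyNoetherian i
  haveI : CompactSpace X := QuasiCompact.compactSpace_of_compactSpace f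
  letI : X.Over (Spec (CommRingCat.of R)) := ⟨f⟩
  haveI : IsProper (X ↘ Spec (CommRingCat.of R)) := ‹IsProper f›
  have hinv := steps_invariant f i hsq In hIc hIf hIs (fun _ => Y) G π hG hstep
  let ι : ∀ n, In (n + 1) ⟶ In n := fun n => eqToHom (hstep n) ≫ kernel.ι _
  have hK := fun n => exists_kernel_preimage i _ hker (In n) (π n)
  have htrans : ∀ n (x : X) (c : (Sx x).obj (kernel ((Scheme.Modules.pullbackPushforwardAdjunction i).unit.app (In n) ≫
      (Scheme.Modules.pushforward i).map (π n)))),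
      (Sx x).map (ι n) ((Sx x).map (eqToHom (hstep n).symm) c) = (Sx x).map (kernel.ι _) c := fun n x c => by
    show (Sx x).map (eqToHom (hstep n) ≫ kernel.ι _) _ = _
    rw [← map_comp_apply, eqToHom_trans_assoc, eqToHom_refl, Category.id_comp]
  let T : Tower i (Coh.toGlobal f ϖ) Y Y' :=
    { M := In, ι := ι, G := G, G' := G', π := π, π' := π', tf := fun n => (hinv n).2.2, hG := hG, hG' := hG'
      hY' := hY', hker := hker
      inj := fun n => (kernelι_data f (In n) (hinv n).2.1 hϖ _ (hstep n)).1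
      comp := fun n => by
        show (Pb).map (eqToHom (hstep n) ≫ kernel.ι _) ≫ π n = 0
        rw [Functor.map_comp, Category.assoc]
        exact (congrArg _ (hK n).1).trans comp_zero
      exK := fun n y a ha => by
        obtain ⟨c, hc⟩ := (hK n).2.1 y a ha
        exact ⟨_, (htrans n _ c).trans hc⟩
      tmul := fun n x a => by
        obtain ⟨c, hc⟩ := (hK n).2.2 x a
        exact ⟨_, (htrans n _ c).trans hc⟩
      reg := fun n x a b h => regular_of_flat f (hinv n).2.1 hϖ.ne_zero x a b h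
      dec := fun n y => haveI := hdec n; stalk_surjective (biprod.lift (π (n + 1)) (π' (n + 1))) y }
  haveI : IsAdicComplete (Ideal.span {ϖ}) R :=
    ((IsDiscreteValuationRing.irreducible_iff_uniformizer ϖ).1 hϖ) ▸ ‹IsAdicComplete (IsLocalRing.maximalIdeal R) R›
  obtain ⟨F, p, hF, hp, hreg, e, he⟩ := T.exists_quotient (fun n => (hinv n).1)
    (fun x hx => isUnit_of_notMem_range f i hϖ hsq x hx) (fun x hx => mem_range_of_closed f i hsq hx)
  exact ⟨F, p, hF, hp, isFlatOver_of_regular f hϖ F hreg, e, he⟩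

end Groth.Agent.TF7
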