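import Groth.Agent.TF7.Tower.Formal
import Mathlib.RingTheory.Flat.Localization
import Mathlib.RingTheory.Flat.TorsionFree

/-!
# Flatness over a discrete valuation ring; the closed fibre
-/

set_option autoImplicit false
set_option linter.style.haveILetI false
set_option backward.isDefEq.respectTransparency.types false
set_option backward.isDefEq.respectTransparency false

universe u

open CategoryTheory CategoryTheory.Limits AlgebraicGeometry Opposite TopologicalSpace

noncomputable section

namespace Groth.Agent.TF7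

variable {R : Type u} [CommRing R] [IsDomain R] [IsDiscreteValuationRing R] {X : Scheme.{u}}
  (f : X ⟶ Spec (CommRingCat.of R)) {ϖ : R}

local notation "Sx" => DerSch.stalkFunctor X

/-- A module on which a uniformizer acts injectively is flat. -/
theorem isFlatOver_of_regular (hϖ : Irreducible ϖ) (M : X.Modules)
    (h : ∀ (x : X) (v : (Sx x).obj M), X.presheaf.germ ⊤ x trivial (Coh.toGlobal f ϖ) • v = 0 → v = 0) :
    FlatMod.IsFlatOver f M := by
  intro x
  let y : PrimeSpectrum R := f.base x
  letI : Algebra R ((Spec (CommRingCat.of R)).presheaf.stalk (f.base x)) :=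
    (StructureSheaf.toStalk (CommRingCat.of R) (f.base x)).hom.toAlgebra
  haveI : IsLocalization.AtPrime ((Spec (CommRingCat.of R)).presheaf.stalk (f.base x)) y.asIdeal :=
    StructureSheaf.IsLocalization.to_stalk _ y
  let A := (Spec (CommRingCat.of R)).presheaf.stalk (f.base x)
  letI : Module A (M.presheaf.stalk x) := FlatMod.moduleStalkOver f M x
  letI : Module R (M.presheaf.stalk x) := Module.compHom _ (algebraMap R A)
  haveI : IsScalarTower R A (M.presheaf.stalk x) := IsScalarTower.of_algebraMap_smul fun _ _ => rfl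
  show Module.Flat A (M.presheaf.stalk x)
  rw [Module.flat_iff_of_isLocalization A y.asIdeal.primeCompl]
  haveI : Module.IsTorsionFree R (M.presheaf.stalk x) := by
    refine ⟨fun r hr a b hab => ?_⟩
    obtain ⟨n, u, rfl⟩ := IsDiscreteValuationRing.eq_unit_mul_pow_irreducible hr.ne_zero hϖ
    have hsm : ∀ (c : R) (v : M.presheaf.stalk x),
        c • v = X.presheaf.germ ⊤ x trivial (Coh.toGlobal f c) • v :=
      fun c v => by rw [ModelLib7.germ_toGlobal]; rfl
    have hzero : ∀ (m : ℕ) (v : (Sx x).obj M),
        X.presheaf.germ ⊤ x trivial (Coh.toGlobal f ϖ) ^ m • v = 0 → v = 0 := by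
      intro m
      induction m with
      | zero => intro v hv; rwa [pow_zero, one_smul] at hv
      | succ m ih => intro v hv; rw [pow_succ', mul_smul] at hv; exact ih v (h x _ hv)
    change (Sx x).obj M at a b
    have hab' : X.presheaf.germ ⊤ x trivial (Coh.toGlobal f (↑u * ϖ ^ n)) • a =
        X.presheaf.germ ⊤ x trivial (Coh.toGlobal f (↑u * ϖ ^ n)) • b :=
      (hsm _ a).symm.trans (hab.trans (hsm _ b))
    rw [map_mul, map_mul, mul_smul, mul_smul, map_pow, map_pow] at hab'
    exact sub_eq_zero.1 (hzero n _ (by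
      rw [smul_sub, sub_eq_zero]
      exact ((u.isUnit.map (Coh.toGlobal f)).map (X.presheaf.germ ⊤ x trivial).hom).smul_left_cancel.1 hab'))
  infer_instance

variable {Z : Scheme.{u}} {q : Z ⟶ Spec (CommRingCat.of (IsLocalRing.ResidueField R))} (i : Z ⟶ X)

theorem mem_range_iff (hsq : IsPullback i q f (Spec.map (CommRingCat.ofHom (IsLocalRing.residue R)))) (x : X) :
    x ∈ Set.range i ↔ f x = IsLocalRing.closedPoint R := by
  have h : Set.range i = f ⁻¹' Set.range (Spec.map (CommRingCat.ofHom (IsLocalRing.residue R))) := by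
    rw [← hsq.isoPullback_hom_fst, ← Scheme.Pullback.range_fst]
    exact Set.Subset.antisymm (fun _ ⟨a, ha⟩ => ⟨_, ha⟩) fun _ ⟨a, ha⟩ =>
      ⟨hsq.isoPullback.inv a, by rw [← ha, ← Scheme.Hom.comp_apply, Iso.inv_hom_id_assoc]⟩
  have hr : Set.range (Spec.map (CommRingCat.ofHom (IsLocalRing.residue R))) =
      ({IsLocalRing.closedPoint R} : Set (PrimeSpectrum R)) := by
    refine Set.eq_singleton_iff_unique_mem.2 ⟨⟨IsLocalRing.closedPoint _, ?_⟩, ?_⟩
    · exact IsLocalRing.comap_closedPoint (IsLocalRing.residue R)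
    · rintro _ ⟨a, rfl⟩
      rw [Subsingleton.elim (α := PrimeSpectrum (IsLocalRing.ResidueField R)) a (IsLocalRing.closedPoint _)]
      exact IsLocalRing.comap_closedPoint (IsLocalRing.residue R)
  rw [h, Set.mem_preimage, hr, Set.mem_singleton_iff]

theorem mem_range_of_closed [IsProper f]
    (hsq : IsPullback i q f (Spec.map (CommRingCat.ofHom (IsLocalRing.residue R)))) {x : X}
    (hx : IsClosed ({x} : Set X)) : x ∈ Set.range i := by
  rw [mem_range_iff f i hsq]
  have hc := f.isClosedMap _ hx
  rw [Set.image_singleton] at hc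
  exact PrimeSpectrum.ext (IsLocalRing.eq_maximalIdeal ((PrimeSpectrum.isClosed_singleton_iff_isMaximal _).1 hc))

theorem isUnit_of_notMem_range (hϖ : Irreducible ϖ)
    (hsq : IsPullback i q f (Spec.map (CommRingCat.ofHom (IsLocalRing.residue R)))) (x : X)
    (hx : x ∉ Set.range i) : IsUnit (X.presheaf.germ ⊤ x trivial (Coh.toGlobal f ϖ)) := by
  rw [ModelLib7.germ_toGlobal]
  refine IsUnit.map _ ?_
  let y : PrimeSpectrum R := f.base x
  letI : Algebra R ((Spec (CommRingCat.of R)).presheaf.stalk (f.base x)) :=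
    (StructureSheaf.toStalk (CommRingCat.of R) (f.base x)).hom.toAlgebra
  haveI : IsLocalization.AtPrime ((Spec (CommRingCat.of R)).presheaf.stalk (f.base x)) y.asIdeal :=
    StructureSheaf.IsLocalization.to_stalk _ y
  refine IsLocalization.map_units (M := y.asIdeal.primeCompl) _ ⟨ϖ, fun hmem => hx ?_⟩
  rw [mem_range_iff f i hsq]
  refine PrimeSpectrum.ext ?_
  exact le_antisymm (IsLocalRing.le_maximalIdeal y.isPrime.ne_top)
    (((IsDiscreteValuationRing.irreducible_iff_uniformizer ϖ).1 hϖ).le.trans
      (Ideal.span_le.2 (Set.singleton_subset_iff.2 hmem)))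

end Groth.Agent.TF7
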