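import Groth.Agent.TF7.ModifTF
import Groth.Agent.TF7.Decompose
import Groth.Agent.TF7.SubTransfer
import Groth.Agent.TF7.Extension

/-!
# Towers of elementary modifications which decompose at every step
-/

set_option autoImplicit false
set_option linter.style.haveILetI false
set_option backward.isDefEq.respectTransparency.types false
set_option backward.isDefEq.respectTransparency false

universe u

open CategoryTheory CategoryTheory.Limits AlgebraicGeometry Opposite TopologicalSpace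
open Groth.Agent.OmegaLib Groth.Agent.Coherent

noncomputable section

namespace Groth.Agent.TF7

variable {X Z : Scheme.{u}} (i : Z ⟶ X) (t : Γ(X, ⊤))

local notation "P" => Scheme.Modules.pullback i
local notation "Sx" => DerSch.stalkFunctor X
local notation "Sz" => DerSch.stalkFunctor Z
local notation "tg" => fun x => X.presheaf.germ ⊤ x trivial t

/-- The kernel inclusion of an elementary modification on stalks: range, and `t`-multiples. -/
theorem exists_kernel_preimage [IsClosedImmersion i]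
    (hker : ∀ y, RingHom.ker (i.stalkMap y).hom = Ideal.span {X.presheaf.germ ⊤ (i y) trivial t})
    (I : X.Modules) {G : Z.Modules} (π : (P).obj I ⟶ G) :
    let φ : I ⟶ (Scheme.Modules.pushforward i).obj G :=
      (Scheme.Modules.pullbackPushforwardAdjunction i).unit.app I ≫ (Scheme.Modules.pushforward i).map π
    (P).map (kernel.ι φ) ≫ π = 0 ∧
      (∀ (y : Z) (a : (Sx (i y)).obj I), (Sz y).map π (pbs i I y a) = 0 →
        ∃ c, (Sx (i y)).map (kernel.ι φ) c = a) ∧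
      ∀ (x : X) (a : (Sx x).obj I), ∃ c, (Sx x).map (kernel.ι φ) c = X.presheaf.germ ⊤ x trivial t • a := by
  intro φ
  let adj := Scheme.Modules.pullbackPushforwardAdjunction i
  have hφ : φ = adj.homEquiv _ _ π := (Adjunction.homEquiv_unit adj _ _ π).symm
  have hzero : ∀ {A : X.Modules}, adj.homEquiv A G 0 = 0 := fun {A} => by
    rw [Adjunction.homEquiv_unit, Functor.map_zero, comp_zero]
  have hcomp : ∀ {A : X.Modules} (a : A ⟶ I), (P).map a ≫ π = 0 ↔ a ≫ φ = 0 := fun {A} a => by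
    rw [hφ, ← Adjunction.homEquiv_naturality_left, ← hzero, (adj.homEquiv _ _).injective.eq_iff]
  refine ⟨(hcomp _).2 (kernel.condition φ), fun y a ha => ?_, fun x a => ?_⟩
  · obtain ⟨U, hy, s, rfl⟩ := exists_gm I a
    rw [pbs_gm, map_gm] at ha
    obtain ⟨V, hVU, hyV, hV⟩ := exists_res_eq_zero G (U := i ⁻¹ᵁ U) hy _ ha
    obtain ⟨U', hU', hU'V⟩ := i.isClosedEmbedding.isInducing.isOpen_iff.1 V.2
    let W : X.Opens := U ⊓ ⟨U', hU'⟩
    have hWV : i ⁻¹ᵁ W ≤ V := fun z hz => (Set.ext_iff.1 hU'V z).1 hz.2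
    have hyW : i y ∈ W := ⟨hy, (Set.ext_iff.1 hU'V y).2 hyV⟩
    have h0 : φ.app W (I.presheaf.map (homOfLE (inf_le_left : W ≤ U)).op s) = 0 := by
      show π.app (i ⁻¹ᵁ W) (OmegaSh.pullSect i I W (I.presheaf.map (homOfLE (inf_le_left : W ≤ U)).op s)) = 0
      have e : OmegaSh.pullSect i I W (I.presheaf.map (homOfLE (inf_le_left : W ≤ U)).op s) =
          ((P).obj I).presheaf.map (homOfLE (i.preimage_mono (inf_le_left : W ≤ U))).op (OmegaSh.pullSect i I U s) :=
        congr($((adj.unit.app I).mapPresheaf.naturality (homOfLE (inf_le_left : W ≤ U)).op) s)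
      rw [e]
      refine (congr($(π.mapPresheaf.naturality (homOfLE (i.preimage_mono (inf_le_left : W ≤ U))).op)
        (OmegaSh.pullSect i I U s))).trans ?_
      have hV' : G.presheaf.map (homOfLE hWV).op
          (G.presheaf.map (homOfLE hVU).op (π.app (i ⁻¹ᵁ U) (OmegaSh.pullSect i I U s))) = 0 := by
        rw [hV, map_zero]
      refine Eq.trans ?_ hV'
      refine Eq.trans ?_ (ConcreteCategory.comp_apply _ _ _)
      refine (ConcreteCategory.comp_apply _ _ _).trans ?_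
      rw [← Functor.map_comp]
      rfl
    have h1 : (Sx (i y)).map φ (gm I W (i y) hyW (I.presheaf.map (homOfLE (inf_le_left : W ≤ U)).op s)) = 0 := by
      rw [map_gm, h0, gm_zero]
    obtain ⟨n, hn⟩ := exists_kernel_lift φ _ h1
    exact ⟨n, hn.trans (gm_res _ _ _ _ _)⟩
  · have hsφ : EulerLib.smulMod I t ≫ φ = 0 := (hcomp _).1 (by
      rw [show (P).map (EulerLib.smulMod I t) = 0 from pullback_map_smulMod i hker I, zero_comp])
    refine ⟨(Sx x).map (kernel.lift φ _ hsφ) a, ?_⟩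
    rw [← map_comp_apply, kernel.lift_ι, map_smulMod]

/-- A tower of modifications along `Y`, decomposed at `(Y, Y')`. -/
structure Tower (Y Y' : Set Z) where
  M : ℕ → X.Modules
  ι : ∀ n, M (n + 1) ⟶ M n
  G : ℕ → Z.Modules
  G' : ℕ → Z.Modules
  π : ∀ n, (P).obj (M n) ⟶ G n
  π' : ∀ n, (P).obj (M n) ⟶ G' n
  tf : ∀ n, TFOne.IsTF1 Z ((P).obj (M n))
  hG : ∀ n, TFOne.IsQuotOn Z ((P).obj (M n)) Y (G n) (π n)
  hG' : ∀ n, TFOne.IsQuotOn Z ((P).obj (M n)) Y' (G' n) (π' n)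
  hY' : ∀ η ∈ genericPoints Z, η ∈ Y' ↔ η ∉ Y
  hker : ∀ y, RingHom.ker (i.stalkMap y).hom = Ideal.span {X.presheaf.germ ⊤ (i y) trivial t}
  inj : ∀ n (x : X), Function.Injective ((Sx x).map (ι n))
  comp : ∀ n, (P).map (ι n) ≫ π n = 0
  exK : ∀ n (y : Z) (a : (Sx (i y)).obj (M n)), (Sz y).map (π n) (pbs i (M n) y a) = 0 →
    ∃ c, (Sx (i y)).map (ι n) c = a
  tmul : ∀ n (x : X) (a : (Sx x).obj (M n)), ∃ c, (Sx x).map (ι n) c = X.presheaf.germ ⊤ x trivial t • a
  reg : ∀ n (x : X) (a b : (Sx x).obj (M n)),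
    X.presheaf.germ ⊤ x trivial t • a = X.presheaf.germ ⊤ x trivial t • b → a = b
  dec : ∀ n (y : Z), Function.Surjective ((Sz y).map (biprod.lift (π (n + 1)) (π' (n + 1))))

variable {i t} {Y Y' : Set Z} [IsReduced Z] [IsLocallyNoetherian Z] [IsClosedImmersion i] (T : Tower i t Y Y')

namespace Tower

theorem spec_pbs' (M : X.Modules) {η y : Z} (h : η ⤳ y) (m : (Sx (i y)).obj M) :
    spec ((P).obj M) h (pbs i M y m) = pbs i M η (spec M (h.map i.continuous) m) :=
  spec_pbs i M h m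

theorem comp_apply (n : ℕ) (y : Z) (c : (Sx (i y)).obj (T.M (n + 1))) :
    (Sz y).map (T.π n) (pbs i (T.M n) y ((Sx (i y)).map (T.ι n) c)) = 0 := by
  rw [← pbs_map, ← map_comp_apply, T.comp, map_zero_apply]

theorem b1 (n : ℕ) (y : Z) (z : (Sx (i y)).obj (T.M (n + 1))) :
    ∃ (c : (Sx (i y)).obj (T.M (n + 2))) (w : (Sx (i y)).obj (T.M (n + 1))) (a : (Sx (i y)).obj (T.M n)),
      z = (Sx (i y)).map (T.ι (n + 1)) c + w ∧
        (Sx (i y)).map (T.ι n) w = X.presheaf.germ ⊤ (i y) trivial t • a := by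
  let L := biprod.lift (T.π (n + 1)) (T.π' (n + 1))
  obtain ⟨v, hv⟩ := T.dec n y ((Sz y).map biprod.inl ((Sz y).map (T.π (n + 1)) (pbs i _ y z)))
  have h1 : (Sz y).map (T.π (n + 1)) v = (Sz y).map (T.π (n + 1)) (pbs i _ y z) := by
    rw [← biprod.lift_fst (T.π (n + 1)) (T.π' (n + 1)), map_comp_apply, hv, ← map_comp_apply, biprod.inl_fst,
      CategoryTheory.Functor.map_id, biprod.lift_fst]
    rfl
  have h2 : (Sz y).map (T.π' (n + 1)) v = 0 := by
    rw [← biprod.lift_snd (T.π (n + 1)) (T.π' (n + 1)), map_comp_apply, hv, ← map_comp_apply, biprod.inl_snd,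
      map_zero_apply]
  obtain ⟨w, rfl⟩ := pbs_surjective i (T.M (n + 1)) y v
  have hM := leOne_of_isRkOne (T.tf n).2.2
  have hN := leOne_of_isRkOne (T.tf (n + 1)).2.2
  have hw : pbs i (T.M n) y ((Sx (i y)).map (T.ι n) w) = 0 :=
    eq_zero_of_generic (T.tf n).1.1 (T.tf n).2.1 _ fun η hη hs => by
      rw [← pbs_map, spec_map]
      by_cases hηY : η ∈ Y
      · refine quot_injective_generic hM (T.hG n) hη hηY ?_
        rw [← map_comp_apply, T.comp, map_zero_apply]
      · rw [(map_eq_zero_iff hN (T.hG' (n + 1)) _).1 h2 η hη ((T.hY' η hη).2 hηY) hs, map_zero]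
  obtain ⟨a, ha⟩ := (pbs_eq_zero_iff i T.hker (T.M n) y _).1 hw
  obtain ⟨c, hc⟩ := T.exK (n + 1) y (z - w) (by rw [map_sub, map_sub, h1, sub_self])
  exact ⟨c, w, a, by rw [hc]; abel, ha⟩

theorem b2 (n : ℕ) (y : Z) (w : (Sx (i y)).obj (T.M (n + 1))) (a : (Sx (i y)).obj (T.M n))
    (ha : (Sx (i y)).map (T.ι n) w = X.presheaf.germ ⊤ (i y) trivial t • a)
    (hw : (Sz y).map (T.π (n + 1)) (pbs i _ y w) = 0) : (Sz y).map (T.π n) (pbs i _ y a) = 0 := by
  have hN := leOne_of_isRkOne (T.tf (n + 1)).2.2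
  have hM := leOne_of_isRkOne (T.tf n).2.2
  have key : pbs i (T.M (n + 1)) y w = 0 := eq_zero_of_generic (T.tf (n + 1)).1.1 (T.tf (n + 1)).2.1 _
    fun η hη hs => by
      by_cases hηY : η ∈ Y
      · exact (map_eq_zero_iff hN (T.hG (n + 1)) _).1 hw η hη hηY hs
      · rw [spec_pbs']
        let w' := spec (T.M (n + 1)) (hs.map i.continuous) w
        let a' := spec (T.M n) (hs.map i.continuous) a
        have ha' : (Sx (i η)).map (T.ι n) w' = X.presheaf.germ ⊤ (i η) trivial t • a' := by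
          rw [← spec_map, ha, spec_smul]
          congr 1
          exact TopCat.Presheaf.germ_stalkSpecializes_apply X.presheaf (U := (⊤ : X.Opens)) trivial (hs.map i.continuous) t
        obtain ⟨a'', hc⟩ := T.exK n η a' (stalk_zero_of_notMem (T.hG n) hηY _)
        refine (pbs_eq_zero_iff i T.hker _ η w').2 ⟨a'', T.inj n (i η) ?_⟩
        rw [ha', map_smul, hc]
  obtain ⟨w', hw'⟩ := (pbs_eq_zero_iff i T.hker _ y w).1 key
  have : a = (Sx (i y)).map (T.ι n) w' := T.reg n _ _ _ (by rw [← ha, hw', map_smul])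
  rw [this, T.comp_apply]

/-- The composite inclusion into the bottom of the tower. -/
def J : ∀ n, T.M n ⟶ T.M 0
  | 0 => 𝟙 _
  | n + 1 => T.ι n ≫ J n

theorem J_succ (n : ℕ) (x : X) (c : (Sx x).obj (T.M (n + 1))) :
    (Sx x).map (T.J (n + 1)) c = (Sx x).map (T.J n) ((Sx x).map (T.ι n) c) :=
  map_comp_apply _ _ c

theorem J_zero (x : X) (c : (Sx x).obj (T.M 0)) : (Sx x).map (T.J 0) c = c := by
  show (Sx x).map (𝟙 (T.M 0)) c = c
  rw [CategoryTheory.Functor.map_id]
  rfl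

theorem J_injective : ∀ (n : ℕ) (x : X), Function.Injective ((Sx x).map (T.J n))
  | 0, x => fun a b h => by rwa [T.J_zero, T.J_zero] at h
  | n + 1, x => fun a b h => by
    rw [T.J_succ, T.J_succ] at h
    exact T.inj n x (J_injective n x h)

theorem pow_mem : ∀ (n : ℕ) (x : X) (a : (Sx x).obj (T.M 0)),
    ∃ c, (Sx x).map (T.J n) c = X.presheaf.germ ⊤ x trivial t ^ n • a
  | 0, x, a => ⟨a, by rw [T.J_zero, pow_zero, one_smul]⟩
  | n + 1, x, a => by
    obtain ⟨b, hb⟩ := pow_mem n x a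
    obtain ⟨c, hc⟩ := T.tmul n x b
    exact ⟨c, by rw [T.J_succ, hc, map_smul, hb, smul_smul, ← pow_succ']⟩

theorem sum_mem (y : Z) : ∀ (n : ℕ) (b : (Sx (i y)).obj (T.M (n + 1))),
    ∃ (c : (Sx (i y)).obj (T.M (n + 2))) (a : (Sx (i y)).obj (T.M 0)),
      (Sx (i y)).map (T.J (n + 1)) b =
        (Sx (i y)).map (T.J (n + 2)) c + X.presheaf.germ ⊤ (i y) trivial t ^ (n + 1) • a := by
  intro n
  induction n with
  | zero =>
    intro b
    obtain ⟨c, w, a, rfl, hw⟩ := T.b1 0 y b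
    refine ⟨c, a, ?_⟩
    rw [map_add, T.J_succ 1, T.J_succ 0 (i y) w, hw, map_smul, T.J_zero, pow_one]
  | succ n ih =>
    intro b
    obtain ⟨c, w, a, rfl, hw⟩ := T.b1 (n + 1) y b
    obtain ⟨c₁, a₁, hca⟩ := ih a
    obtain ⟨c₂, hc₂⟩ := T.tmul (n + 2) (i y) c₁
    refine ⟨c + c₂, a₁, ?_⟩
    rw [map_add, map_add, T.J_succ (n + 2) (i y) c, T.J_succ (n + 2) (i y) c₂, hc₂, T.J_succ (n + 1) (i y) w, hw,
      map_smul, map_smul, hca, smul_add, smul_smul, ← pow_succ']
    exact (add_assoc _ _ _).symm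

theorem torsion_mem (y : Z) : ∀ (m n : ℕ), m ≤ n + 1 → ∀ (a : (Sx (i y)).obj (T.M 0)),
    (∃ c, (Sx (i y)).map (T.J (n + 2)) c = X.presheaf.germ ⊤ (i y) trivial t • a) →
    ∃ b, (Sx (i y)).map (T.J m) b = a := by
  intro m
  induction m with
  | zero => exact fun n _ a _ => ⟨a, T.J_zero _ a⟩
  | succ m ih =>
    intro n hm a hc
    obtain ⟨b, hb⟩ := ih n (by omega) a hc
    obtain ⟨c, hc⟩ := hc
    have down : ∀ j, j ≤ n + 2 → ∃ c', (Sx (i y)).map (T.J j) c' = (Sx (i y)).map (T.J (n + 2)) c := by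
      intro j hj
      induction hj using Nat.decreasingInduction with
      | self => exact ⟨c, rfl⟩
      | of_succ j _ ih' => obtain ⟨c', hc'⟩ := ih'; exact ⟨_, (T.J_succ j _ c').symm.trans hc'⟩
    obtain ⟨c', hc'⟩ := down (m + 2) (by omega)
    obtain ⟨w, hwdef⟩ : ∃ w, (Sx (i y)).map (T.ι (m + 1)) c' = w := ⟨_, rfl⟩
    have hw : (Sx (i y)).map (T.ι m) w = X.presheaf.germ ⊤ (i y) trivial t • b := T.J_injective m _ (by
      rw [← T.J_succ, ← hwdef, ← T.J_succ, hc', hc, map_smul, hb])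
    obtain ⟨b', hb'⟩ := T.exK m y b (T.b2 m y w b hw (by rw [← hwdef]; exact T.comp_apply _ y c'))
    exact ⟨b', by rw [T.J_succ, hb', hb]⟩

end Tower

end Groth.Agent.TF7
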