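import Groth.Agent.TF7.Tower.Basic
import Groth.Agent.Coherent.Existence.Proper
import Groth.Agent.Coherent.Existence.FullFaithful
import Groth.Agent.Coherent.FormalSupport
import Groth.Agent.Props12.FinLocFree
import Groth.Agent.Et18.ShriekProper
import Mathlib.RingTheory.Filtration
import Mathlib.RingTheory.Nakayama

/-!
# Algebraization of the quotients of a decomposed tower
-/

set_option autoImplicit false
set_option linter.style.haveILetI false
set_option backward.isDefEq.respectTransparency.types false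
set_option backward.isDefEq.respectTransparency false
set_option maxHeartbeats 1000000

universe u

open CategoryTheory CategoryTheory.Limits AlgebraicGeometry Opposite TopologicalSpace
open Groth.Agent.OmegaLib Groth.Agent.Coherent

noncomputable section

namespace Groth.Agent.TF7

variable {X : Scheme.{u}}

local notation "Sx" => DerSch.stalkFunctor X

theorem exists_coker_preimage {A B : X.Modules} (g : A ⟶ B) {x : X} (b : (Sx x).obj B)
    (h : (Sx x).map (cokernel.π g) b = 0) : ∃ a, (Sx x).map g a = b := by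
  have hS : ((ShortComplex.mk _ _ (cokernel.condition g)).map (Sx x)).Exact :=
    (ShortComplex.exact_cokernel g).map (Sx x)
  exact ((ShortComplex.moduleCat_exact_iff _).1 hS) b h

theorem map_formal_smulMod {A : Type u} [CommRing A] [X.Over (Spec (CommRingCat.of A))] (M : X.Modules) (c : A)
    {x : X} (v : (Sx x).obj M) :
    (Sx x).map (Formal.smulMod A M c) v =
      X.presheaf.germ ⊤ x trivial (Coh.toGlobal (X ↘ Spec (CommRingCat.of A)) c) • v := by
  obtain ⟨U, hU, m, rfl⟩ := exists_gm M v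
  rw [map_gm]
  show gm M U x hU ((X.presheaf.map (homOfLE (le_top : U ≤ ⊤)).op (Coh.toGlobal (X ↘ Spec (CommRingCat.of A)) c) : Γ(X, U)) • m) = _
  rw [gm_smul]
  congr 1
  exact TopCat.Presheaf.germ_res_apply X.presheaf _ x hU _

/-- A coherent module with zero stalks at closed points is zero. -/
theorem stalk_eq_zero_of_closedPoints [IsLocallyNoetherian X] [CompactSpace X] {M : X.Modules} (hM : Coh.IsCoh M)
    (h : ∀ x : X, IsClosed ({x} : Set X) → ∀ v : (Sx x).obj M, v = 0) (x : X) (v : (Sx x).obj M) : v = 0 := by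
  haveI := hM.1
  have hcl := isClosed_support M (locallyFinGen_of_isFT M hM.2)
  have he : CohB1.support M = ∅ := by
    by_contra hne
    obtain ⟨z, hz, hzc⟩ := hcl.exists_closed_singleton (Set.nonempty_iff_ne_empty.2 hne)
    exact hz (subsingleton_of_forall_eq 0 fun w => h z hzc w)
  haveI : Subsingleton (M.presheaf.stalk x) := not_not.1 fun hn => (he ▸ hn : x ∈ (∅ : Set X))
  exact Subsingleton.elim (α := M.presheaf.stalk x) v 0

theorem stalk_range_eq_top_of_le {A B : X.Modules} {x : X} [Module.Finite (X.presheaf.stalk x) ((Sx x).obj B)]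
    (g : A ⟶ B) (c : X.presheaf.stalk x) (hc : c ∈ IsLocalRing.maximalIdeal (X.presheaf.stalk x))
    (h : ∀ b, ∃ a b', b = (Sx x).map g a + c • b') : Function.Surjective ((Sx x).map g) := by
  have hle : (⊤ : Submodule (X.presheaf.stalk x) ((Sx x).obj B)) ≤ LinearMap.range ((Sx x).map g).hom ⊔
      IsLocalRing.maximalIdeal (X.presheaf.stalk x) • ⊤ := fun b _ => by
    obtain ⟨a, b', rfl⟩ := h b
    exact add_mem (Submodule.mem_sup_left ⟨a, rfl⟩)
      (Submodule.mem_sup_right (Submodule.smul_mem_smul hc Submodule.mem_top))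
  intro b
  exact Submodule.le_of_le_smul_of_le_jacobson_bot Module.Finite.fg_top
    (IsLocalRing.maximalIdeal_le_jacobson ⊥) hle (Submodule.mem_top (x := b))

variable {R : Type u} [CommRing R] [IsNoetherianRing R] {ϖ : R} [X.Over (Spec (CommRingCat.of R))]
variable {Z : Scheme.{u}} {i : Z ⟶ X} {Y Y' : Set Z}

variable (T : Tower i (Coh.toGlobal (X ↘ Spec (CommRingCat.of R)) ϖ) Y Y')

/-- The quotients of the bottom of the tower. -/
def Tower.Q (n : ℕ) : X.Modules := cokernel (T.J (n + 1))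

def Tower.q (n : ℕ) : T.M 0 ⟶ T.Q n := cokernel.π _

instance (n : ℕ) : Epi (T.q n) := by unfold Tower.q; infer_instance

def Tower.tr (n : ℕ) : T.Q (n + 1) ⟶ T.Q n :=
  cokernel.desc _ (T.q n) (by
    show (T.ι (n + 1) ≫ T.J (n + 1)) ≫ cokernel.π _ = 0
    rw [Category.assoc, cokernel.condition, comp_zero])

theorem Tower.q_tr (n : ℕ) : T.q (n + 1) ≫ T.tr n = T.q n := cokernel.π_desc _ _ _

def Tower.sys : ℕᵒᵖ ⥤ X.Modules := Functor.ofOpSequence (T.tr)

theorem Tower.q_eq_zero_iff (n : ℕ) (x : X) (a : (Sx x).obj (T.M 0)) :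
    (Sx x).map (T.q n) a = 0 ↔ ∃ c, (Sx x).map (T.J (n + 1)) c = a :=
  ⟨exists_coker_preimage _ a, fun ⟨c, hc⟩ => by
    rw [← hc, ← map_comp_apply]
    show (Sx x).map (T.J (n + 1) ≫ cokernel.π _) c = 0
    rw [cokernel.condition, map_zero_apply]⟩

variable [IsReduced Z] [IsLocallyNoetherian Z] [IsClosedImmersion i] [IsLocallyNoetherian X]

theorem Tower.isCohFormal_sys (hc : ∀ n, Coh.IsCoh (T.M n))
    (hout : ∀ x : X, x ∉ Set.range i → IsUnit (X.presheaf.germ ⊤ x trivial (Coh.toGlobal (X ↘ Spec (CommRingCat.of R)) ϖ))) :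
    Formal.IsCohFormal (Ideal.span {ϖ}) (T.sys) := by
  have hpow : ∀ (m : ℕ) (x : X), X.presheaf.germ ⊤ x trivial (Coh.toGlobal (X ↘ Spec (CommRingCat.of R)) (ϖ ^ m)) =
      X.presheaf.germ ⊤ x trivial (Coh.toGlobal (X ↘ Spec (CommRingCat.of R)) ϖ) ^ m := fun m x => by rw [map_pow, map_pow]
  refine ⟨fun n => isCoh_cokernel _ (hc _).1 (hc 0), fun n c hcI => ?_, fun n => ?_⟩
  · rw [Ideal.span_singleton_pow, Ideal.mem_span_singleton'] at hcI
    obtain ⟨r, rfl⟩ := hcI
    change Formal.smulMod R (T.Q n) (r * ϖ ^ (n + 1)) = 0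
    refine hom_ext_stalks _ _ fun x v => ?_
    rw [map_zero_apply, map_formal_smulMod, map_mul, map_mul, hpow, mul_smul]
    obtain ⟨a, rfl⟩ := stalk_surjective (T.q n) x v
    rw [← map_smul, (T.q_eq_zero_iff n x _).2 (T.pow_mem (n + 1) x a), smul_zero]
  · have htr : (T.sys).map (homOfLE (Nat.le_succ n)).op = T.tr n :=
      Functor.ofOpSequence_map_homOfLE_succ _ n
    rw [htr]
    change ∃ h : Formal.smulFamily (Ideal.span {ϖ} ^ (n + 1)) (T.Q (n + 1)) ≫ T.tr n = 0,
      IsIso (cokernel.desc _ _ h)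
    have h : Formal.smulFamily (Ideal.span {ϖ} ^ (n + 1)) (T.Q (n + 1)) ≫ T.tr n = 0 := by
      refine Sigma.hom_ext _ _ fun c => ?_
      rw [comp_zero, ← Category.assoc, Formal.smulFamily, Sigma.ι_desc]
      obtain ⟨c, hcI⟩ := c
      rw [Ideal.span_singleton_pow, Ideal.mem_span_singleton'] at hcI
      obtain ⟨r, rfl⟩ := hcI
      refine hom_ext_stalks _ _ fun x v => ?_
      rw [map_zero_apply, map_comp_apply, map_formal_smulMod, map_mul, map_mul, hpow, mul_smul]
      obtain ⟨a, rfl⟩ := stalk_surjective (T.q (n + 1)) x v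
      rw [map_smul, map_smul, ← map_comp_apply, T.q_tr, ← map_smul, (T.q_eq_zero_iff n x _).2 (T.pow_mem (n + 1) x a),
        smul_zero]
    refine ⟨h, ?_⟩
    haveI : Epi (T.q (n + 1) ≫ T.tr n) := by rw [T.q_tr]; infer_instance
    haveI : Epi (T.tr n) := epi_of_epi (T.q (n + 1)) _
    haveI : Epi (cokernel.desc _ _ h) := by
      haveI : Epi (cokernel.π _ ≫ cokernel.desc _ _ h) := by rw [cokernel.π_desc]; infer_instance
      exact epi_of_epi (cokernel.π _) _
    haveI : Mono (cokernel.desc _ _ h) := by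
      refine mono_of_stalks_injective _ fun x => (injective_iff_map_eq_zero _).2 fun w hw => ?_
      obtain ⟨v, rfl⟩ := stalk_surjective (cokernel.π _) x w
      rw [← map_comp_apply, cokernel.π_desc] at hw
      obtain ⟨a, rfl⟩ := stalk_surjective (T.q (n + 1)) x v
      rw [← map_comp_apply, T.q_tr] at hw
      obtain ⟨b, rfl⟩ := (T.q_eq_zero_iff n x a).1 hw
      obtain ⟨c, a', hab⟩ : ∃ (c : (Sx x).obj (T.M (n + 2))) (a' : (Sx x).obj (T.M 0)),
          (Sx x).map (T.J (n + 1)) b =
            (Sx x).map (T.J (n + 2)) c + X.presheaf.germ ⊤ x trivial (Coh.toGlobal (X ↘ Spec (CommRingCat.of R)) ϖ) ^ (n + 1) • a' := by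
        by_cases hx : x ∈ Set.range i
        · obtain ⟨y, rfl⟩ := hx
          exact T.sum_mem y n b
        · obtain ⟨u, hu⟩ := (hout x hx).pow (n + 1)
          refine ⟨0, (↑u⁻¹ : X.presheaf.stalk x) • (Sx x).map (T.J (n + 1)) b, ?_⟩
          rw [map_zero, zero_add, ← hu, smul_smul, Units.mul_inv, one_smul]
      have h0 : (Sx x).map (T.q (n + 1)) ((Sx x).map (T.J (n + 2)) c) = 0 :=
        (T.q_eq_zero_iff (n + 1) x _).2 ⟨c, rfl⟩
      rw [hab, map_add, h0, zero_add, map_smul, ← hpow, ← map_formal_smulMod, ← map_comp_apply]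
      have hz : Formal.smulMod R (T.Q (n + 1)) (ϖ ^ (n + 1)) ≫
          cokernel.π (Formal.smulFamily (Ideal.span {ϖ} ^ (n + 1)) (T.Q (n + 1))) = 0 := by
        have := Sigma.ι_desc (fun a : ↥(Ideal.span {ϖ} ^ (n + 1)) => Formal.smulMod R (T.Q (n + 1)) (a : R))
          ⟨ϖ ^ (n + 1), Ideal.pow_mem_pow (Ideal.mem_span_singleton_self ϖ) _⟩
        rw [← this, Category.assoc]
        exact (congrArg _ (cokernel.condition _)).trans comp_zero
      rw [hz, map_zero_apply]
    exact isIso_of_mono_of_epi _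

variable [CompactSpace X]

/-- The algebraization of the quotients. -/
theorem Tower.exists_quotient [IsProper (X ↘ Spec (CommRingCat.of R))] [IsAdicComplete (Ideal.span {ϖ}) R]
    (hc : ∀ n, Coh.IsCoh (T.M n))
    (hout : ∀ x : X, x ∉ Set.range i → IsUnit (X.presheaf.germ ⊤ x trivial (Coh.toGlobal (X ↘ Spec (CommRingCat.of R)) ϖ)))
    (hcl : ∀ x : X, IsClosed ({x} : Set X) → x ∈ Set.range i) :
    ∃ (F : X.Modules) (p : T.M 0 ⟶ F), Coh.IsCoh F ∧ Epi p ∧
      (∀ (x : X) (v : (Sx x).obj F), X.presheaf.germ ⊤ x trivial (Coh.toGlobal (X ↘ Spec (CommRingCat.of R)) ϖ) • v = 0 → v = 0) ∧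
      ∃ e : (Scheme.Modules.pullback i).obj F ≅ T.G 0, (Scheme.Modules.pullback i).map p ≫ e.hom = T.π 0 := by
  let 𝔞 := Ideal.span {ϖ}
  have hsys := T.isCohFormal_sys hc hout
  obtain ⟨F, hF, ⟨e⟩⟩ := Existence.algebraizable_of_proper (I := 𝔞) X (T.sys) hsys
  have hkill : ∀ n, Formal.smulFamily (𝔞 ^ (n + 1)) (T.M 0) ≫ T.q n = 0 := fun n => by
    refine Sigma.hom_ext _ _ fun c => ?_
    rw [comp_zero, ← Category.assoc, Formal.smulFamily, Sigma.ι_desc, Serre.smulMod_natural, (show Formal.smulMod R (T.Q n) (c : R) = 0 from hsys.2.1 n c c.2),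
      comp_zero]
  let τ : Formal.completion 𝔞 (T.M 0) ⟶ T.sys :=
    NatTrans.ofOpSequence (fun n => cokernel.desc _ (T.q n) (hkill n)) (fun n => by
      simp only [Tower.sys, Functor.ofOpSequence_map_homOfLE_succ]
      refine (cancel_epi (Formal.modPowπ 𝔞 (n + 1 + 1) (T.M 0))).1 ?_
      simp only [Formal.completion, Functor.ofOpSequence_map_homOfLE_succ]
      rw [← Category.assoc, Formal.modPowπ_trans]
      erw [cokernel.π_desc, ← Category.assoc, cokernel.π_desc]
      exact (T.q_tr n).symm)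
  haveI : FiniteOnSupp R (internalHom (T.M 0) F) := finiteOnSupp_of_isProperOver
    (Et18.isProperOver_of_isProper _ (isClosed_support _ (locallyFinGen_of_isFT _
      (Existence.isCoh_internalHom (hc 0) hF).2)))
  haveI : X.IsSeparated := Serre.isSeparated_of_isProper (X ↘ Spec (CommRingCat.of R))
  obtain ⟨p, hp, -⟩ := Existence.existsUnique_hom 𝔞 (hc 0) hF (τ ≫ e.inv)
  let u : ∀ n, F ⟶ T.Q n := fun n => Formal.modPowπ 𝔞 (n + 1) F ≫ e.hom.app (op n)
  have hpu : ∀ n, p ≫ u n = T.q n := fun n => by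
    show p ≫ Formal.modPowπ 𝔞 (n + 1) F ≫ e.hom.app (op n) = _
    rw [← Category.assoc, ← hp n, Category.assoc, ← NatTrans.comp_app, Category.assoc, e.inv_hom_id,
      Category.comp_id]
    exact cokernel.π_desc _ _ _
  have hker : ∀ (n : ℕ) (x : X) (v : (Sx x).obj F), (Sx x).map (u n) v = 0 →
      ∃ v', X.presheaf.germ ⊤ x trivial (Coh.toGlobal (X ↘ Spec (CommRingCat.of R)) ϖ) ^ (n + 1) • v' = v := fun n x v hv => by
    rw [map_comp_apply, ← map_zero ((Sx x).map (e.hom.app (op n))).hom] at hv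
    have hv' := stalk_injective (e.hom.app (op n)) x hv
    let g : F ⟶ F := Formal.smulMod R F (ϖ ^ (n + 1))
    have hd : Formal.smulFamily (𝔞 ^ (n + 1)) F ≫ cokernel.π g = 0 := by
      refine Sigma.hom_ext _ _ fun c => ?_
      rw [comp_zero, ← Category.assoc, Formal.smulFamily, Sigma.ι_desc]
      obtain ⟨c, hcI⟩ := c
      change c ∈ Ideal.span {ϖ} ^ (n + 1) at hcI
      rw [Ideal.span_singleton_pow, Ideal.mem_span_singleton'] at hcI
      obtain ⟨r, rfl⟩ := hcI
      refine hom_ext_stalks _ _ fun z w => ?_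
      rw [map_zero_apply, map_comp_apply, map_formal_smulMod, map_mul, map_mul, mul_smul, map_smul,
        show X.presheaf.germ ⊤ z trivial (Coh.toGlobal (X ↘ Spec (CommRingCat.of R)) (ϖ ^ (n + 1))) • w =
          (Sx z).map g w from (map_formal_smulMod F _ w).symm, ← map_comp_apply, cokernel.condition, map_zero_apply,
        smul_zero]
    obtain ⟨v', hv''⟩ := exists_coker_preimage g v (by
      rw [show cokernel.π g = Formal.modPowπ 𝔞 (n + 1) F ≫ cokernel.desc _ _ hd from (cokernel.π_desc _ _ hd).symm,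
        map_comp_apply, hv', map_zero])
    exact ⟨v', by rw [← hv'', map_formal_smulMod, map_pow, map_pow]⟩
  have hmax : ∀ y : Z, X.presheaf.germ ⊤ (i y) trivial (Coh.toGlobal (X ↘ Spec (CommRingCat.of R)) ϖ) ∈ IsLocalRing.maximalIdeal (X.presheaf.stalk (i y)) :=
    fun y => IsLocalRing.mem_maximalIdeal _ |>.2 fun hu => by
      have h1 : (i.stalkMap y).hom (X.presheaf.germ ⊤ (i y) trivial (Coh.toGlobal (X ↘ Spec (CommRingCat.of R)) ϖ)) = 0 :=
        RingHom.mem_ker.1 ((T.hker y).ge (Ideal.mem_span_singleton_self _))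
      exact (hu.map (i.stalkMap y).hom).ne_zero h1
  haveI hfin : ∀ x : X, Module.Finite (X.presheaf.stalk x) ((Sx x).obj F) := fun x =>
    haveI := hF.1
    Props12.finite_stalk_of_isFT F hF.2 x
  have hsurj : ∀ y : Z, Function.Surjective ((Sx (i y)).map p) := fun y =>
    stalk_range_eq_top_of_le p _ (hmax y) fun v => by
      obtain ⟨a, ha⟩ := stalk_surjective (T.q 0) (i y) ((Sx (i y)).map (u 0) v)
      obtain ⟨v', hv'⟩ := hker 0 (i y) (v - (Sx (i y)).map p a) (by
        rw [map_sub, ← map_comp_apply, hpu, ha, sub_self])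
      rw [zero_add, pow_one] at hv'
      exact ⟨a, v', by rw [hv']; abel⟩
  haveI hp_epi : Epi p := by
    have hC : ∀ (x : X) (v : (Sx x).obj (cokernel p)), v = 0 :=
      stalk_eq_zero_of_closedPoints (isCoh_cokernel p (hc 0).1 hF) fun x hx v => by
        obtain ⟨y, rfl⟩ := hcl x hx
        obtain ⟨w, rfl⟩ := stalk_surjective (cokernel.π p) (i y) v
        obtain ⟨a, rfl⟩ := hsurj y w
        rw [← map_comp_apply, cokernel.condition, map_zero_apply]
    exact epi_of_stalks_surjective p fun x v => exists_coker_preimage p v (hC x _)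
  refine ⟨F, p, hF, hp_epi, ?_, ?_⟩
  · have hclosed : ∀ y (v : (Sx (i y)).obj F), X.presheaf.germ ⊤ (i y) trivial (Coh.toGlobal (X ↘ Spec (CommRingCat.of R)) ϖ) • v = 0 → v = 0 := by
      intro y v hv
      obtain ⟨a, rfl⟩ := hsurj y v
      have hmem : ∀ n, (Sx (i y)).map p a ∈
          IsLocalRing.maximalIdeal (X.presheaf.stalk (i y)) ^ (n + 1) • (⊤ : Submodule (X.presheaf.stalk (i y)) ((Sx (i y)).obj F)) := by
        intro n
        have h0 : (Sx (i y)).map (T.q (n + 1)) (X.presheaf.germ ⊤ (i y) trivial (Coh.toGlobal (X ↘ Spec (CommRingCat.of R)) ϖ) • a) = 0 := by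
          rw [← hpu, map_comp_apply, map_smul, hv, map_zero]
        obtain ⟨b, rfl⟩ := T.torsion_mem y (n + 1) n le_rfl a ((T.q_eq_zero_iff (n + 1) _ _).1 h0)
        obtain ⟨v', hv'⟩ := hker n (i y) ((Sx (i y)).map p ((Sx (i y)).map (T.J (n + 1)) b)) (by
          rw [← map_comp_apply p, hpu]
          exact (T.q_eq_zero_iff n _ _).2 ⟨b, rfl⟩)
        rw [← hv']
        exact Submodule.smul_mem_smul (Ideal.pow_mem_pow (hmax y) _) Submodule.mem_top
      have hK := Ideal.iInf_pow_smul_eq_bot_of_isLocalRing (M := (Sx (i y)).obj F)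
        (IsLocalRing.maximalIdeal (X.presheaf.stalk (i y))) (IsLocalRing.maximalIdeal.isMaximal _).ne_top
      refine (Submodule.mem_bot (X.presheaf.stalk (i y))).1 (hK.le ((Submodule.mem_iInf _).2 fun n => ?_))
      cases n with
      | zero => rw [pow_zero, Ideal.one_eq_top, Submodule.top_smul]; exact Submodule.mem_top
      | succ n => exact hmem n
    intro x v hv
    let g : F ⟶ F := EulerLib.smulMod F (Coh.toGlobal (X ↘ Spec (CommRingCat.of R)) ϖ)
    obtain ⟨k, rfl⟩ := exists_kernel_lift g v (by rw [map_smulMod]; exact hv)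
    rw [stalk_eq_zero_of_closedPoints (isCoh_kernel g hF hF.1) (fun z hz k => ?_) x k, map_zero]
    obtain ⟨y, rfl⟩ := hcl z hz
    refine stalk_injective (kernel.ι g) (i y) ?_
    rw [map_zero]
    refine hclosed y _ ?_
    rw [← map_smulMod, ← map_comp_apply, kernel.condition, map_zero_apply]
  · let P := Scheme.Modules.pullback i
    haveI := (T.hG 0).1
    haveI : Epi (P.map p) := inferInstance
    have hiff : ∀ (y : Z) (w : (DerSch.stalkFunctor Z y).obj (P.obj (T.M 0))),
        (DerSch.stalkFunctor Z y).map (P.map p) w = 0 ↔ (DerSch.stalkFunctor Z y).map (T.π 0) w = 0 := by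
      intro y w
      obtain ⟨a, rfl⟩ := pbs_surjective i (T.M 0) y w
      rw [pbs_map, pbs_eq_zero_iff i T.hker F y]
      constructor
      · rintro ⟨v, hv⟩
        obtain ⟨a', rfl⟩ := hsurj y v
        have h0 : (Sx (i y)).map (T.q 0) a = X.presheaf.germ ⊤ (i y) trivial (Coh.toGlobal (X ↘ Spec (CommRingCat.of R)) ϖ) • (Sx (i y)).map (T.q 0) a' := by
          rw [← hpu, map_comp_apply p, map_comp_apply p, hv, map_smul]
        rw [← map_smul, ← sub_eq_zero, ← map_sub] at h0
        obtain ⟨c, hc'⟩ := (T.q_eq_zero_iff 0 _ _).1 h0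
        obtain ⟨d, hd⟩ := T.tmul 0 (i y) a'
        have ha : a = (Sx (i y)).map (T.ι 0) (c + d) := by
          rw [map_add, hd, ← T.J_zero (i y) ((Sx (i y)).map (T.ι 0) c), ← T.J_succ, hc']
          abel
        rw [ha]
        exact T.comp_apply 0 y _
      · intro hw
        obtain ⟨c, rfl⟩ := T.exK 0 y a hw
        obtain ⟨v, hv⟩ := hker 0 (i y) ((Sx (i y)).map p ((Sx (i y)).map (T.ι 0) c)) (by
          rw [← map_comp_apply p, hpu]
          exact (T.q_eq_zero_iff 0 _ _).2 ⟨c, (T.J_succ 0 _ c).trans (T.J_zero _ _)⟩)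
        exact ⟨v, by rw [← hv, zero_add, pow_one]⟩
    obtain ⟨g, hg⟩ := exists_desc (P.map p) (T.π 0) fun y w hw => (hiff y w).1 hw
    obtain ⟨g', hg'⟩ := exists_desc (T.π 0) (P.map p) fun y w hw => (hiff y w).2 hw
    refine ⟨⟨g, g', ?_, ?_⟩, hg⟩
    · rw [← cancel_epi (P.map p), ← Category.assoc, hg, hg', Category.comp_id]
    · rw [← cancel_epi (T.π 0), ← Category.assoc, hg', hg, Category.comp_id]

end Groth.Agent.TF7
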